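import Cfsg.Agent.ChS.Defs
import Cfsg.Agent.ChS.Ar
import Cfsg.Agent.ChS.Len

/-! Degrees 8 to 299. See stubs/Cfsg/Agent/ChS/PLAN.md, section NA. -/

set_option autoImplicit false
set_option synthInstance.maxSize 100000

namespace Cfsg.Agent.ChS

open Equiv MulAction

namespace NAH

/-- The values of `W` below 300, in base 1024. -/
def TB : ℕ :=
  0x5dd775d9745c5715c16f5b56d5b56c599665996458d6258d6257d5e5795d56959561585555454d525414f53d4f5314b5294951945515444f13c4ed3b4e5384d9354c9324c9314bd2b4ad2a499254952548d22489214791d4791d4711b4691845113449124411043d0f4290a4250841d0641104400ff3f8fe3ecfb3e8fa3dcf63d8f53c8f03c0ef3a8e93a4e7394e5390e3380e0384e0378dd370db35cd635cd6350d334cd233cce334cd330cb320c7304c0300bf2f4bd2f4bc2e8b92e0b72d4b42ccb32b8ad2b0ab2a8a92a8a9298a3288a22809f27c9f2649825c9524c92244902348d2308b224892248820c8320c821fc7e1f47c1e8791e8791d8751d4741b86e1b46d1ac6b1ac6a19c661946418c621845e16c5a1645915c5615855148511445013c4e1384e120461184510841100400f43d0f03b0e4380dc360cc320c4300bc2e0b82d0a82a0a829098250902307c1e07c1e0701a064180541404c1304811044100300b02c0a0240801c060100300c020040100000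

/-- The table of `W`. -/
def tb (m : ℕ) : ℕ := TB / 1024 ^ m % 1024

theorem w1 : ∀ m < 150, W m ≤ tb m := by decide +kernel
theorem w2 : ∀ m < 60, W (150 + m) ≤ tb (150 + m) := by decide +kernel
theorem w3 : ∀ m < 50, W (210 + m) ≤ tb (210 + m) := by decide +kernel
theorem w4 : ∀ m < 40, W (260 + m) ≤ tb (260 + m) := by decide +kernel

theorem W_le {m : ℕ} (h : m < 300) : W m ≤ tb m := by
  rcases lt_or_ge m 150 with a | a
  · exact w1 m a
  rcases lt_or_ge m 210 with b | b
  · simpa only [Nat.add_sub_cancel' a] using w2 (m - 150) (by omega)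
  rcases lt_or_ge m 260 with c | c
  · simpa only [Nat.add_sub_cancel' b] using w3 (m - 210) (by omega)
  · simpa only [Nat.add_sub_cancel' c] using w4 (m - 260) (by omega)

/-- The inequality for `s` blocks of size `b`. -/
def Bl (n j b s : ℕ) : Prop :=
  Nat.log 2 (n.descFactorial j) + (fn s + LK b s) + 2 ≤ fn n ∨
    Om (n.descFactorial j) + (Om s.factorial + OK b s) + 2 ≤ fn n

instance decBl (n j b s : ℕ) : Decidable (Bl n j b s) := by unfold Bl; infer_instance

/-- A bounded form of `Num`. -/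
def Ck (n r q : ℕ) : Prop :=
  (((q = 1 ∧ 3 ≤ r) ∨ (q ≤ 2 ∧ r = 4) ∨ (q < r ∧ 5 ≤ r)) ∧ 1 ≤ q ∧ n = q * ((n - r) / q) + r ∧
    5 ≤ (n - r) / q ∧ q < (n - r) / q ∧ ((n - r) / q).Prime) ∧
  ∀ j < r, (Om (n.descFactorial j) + tb (n - j) + 2 ≤ fn n ∧
      ∀ b < 18, 1 ≤ j → 2 ≤ b → (n - j) % b = 0 → b ≤ (n - j) / b →
        Bl n j b ((n - j) / b) ∧ Bl n j ((n - j) / b) b) ∨
    (2 ≤ j ∧ third n j + 2 ≤ fn n)

instance decCk (n r q : ℕ) : Decidable (Ck n r q) := by unfold Ck; infer_instance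

theorem num {n r q : ℕ} (hn : n < 300) (h : Ck n r q) : Num n := by
  obtain ⟨⟨h1, h2, h3, h4, h5, h6⟩, h⟩ := h
  refine ⟨r, ⟨_, q, h6, h4, h2, h5, h3, h1⟩, fun j hj => (h j hj).symm.imp_right fun h => ⟨?_, ?_⟩⟩
  · have := W_le (m := n - j) (by omega)
    have := h.1
    omega
  have key : ∀ b s, 1 ≤ j → 2 ≤ b → b ≤ s → b * s + j = n → Bl n j b s ∧ Bl n j s b := by
    intro b s hj1 hb hs e
    have e1 : n - j = b * s := by omega
    have e2 : (n - j) / b = s := by rw [e1, Nat.mul_div_cancel_left _ (by omega)]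
    have := h.2 b (by nlinarith) hj1 hb (by rw [e1, Nat.mul_mod_right]) (by rw [e2]; exact hs)
    rwa [e2] at this
  intro b s hj1 hb hs e
  rcases le_total b s with c | c
  · exact (key b s hj1 hb c e).1
  · exact (key s b hj1 hs c (by rw [mul_comm]; exact e)).2

/-- The check on an interval. -/
def Iv (a k : ℕ) : Prop := ∀ i < k, ∃ r < 11, ∃ q < 10, Ck (a + i) r q

instance decIv (a k : ℕ) : Decidable (Iv a k) := by unfold Iv; infer_instance

theorem Iv.num {a k n : ℕ} (h : Iv a k) (hn : n < 300) (h1 : a ≤ n) (h2 : n < a + k) : Num n := by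
  obtain ⟨r, -, q, -, h⟩ := h (n - a) (by omega)
  rw [Nat.add_sub_cancel' h1] at h
  exact NAH.num hn h

theorem c1 : Iv 8 92 := by decide +kernel
theorem c2 : Iv 100 50 := by decide +kernel
theorem c3 : Iv 150 50 := by decide +kernel
theorem c4 : Iv 200 50 := by decide +kernel
theorem c5 : Iv 250 50 := by decide +kernel

end NAH

theorem num_A (n : ℕ) (h1 : 8 ≤ n) (h2 : n < 300) : Num n := by
  rcases lt_or_ge n 100 with a | a
  · exact NAH.c1.num h2 h1 a
  rcases lt_or_ge n 150 with b | b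
  · exact NAH.c2.num h2 a b
  rcases lt_or_ge n 200 with c | c
  · exact NAH.c3.num h2 b c
  rcases lt_or_ge n 250 with d | d
  · exact NAH.c4.num h2 c d
  · exact NAH.c5.num h2 d h2

end Cfsg.Agent.ChS
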